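import Cfsg.Prelude.Def_Blocks
import Cfsg.Prelude.Def_Local
import Cfsg.Prelude.Def_CaseTheorems
import Mathlib

/-!
# S4719 project (helper79): shared vocabulary

* `DC p M X r` : the group `X` has *deficiency class* `r` for the prime `p`: no non-principal
  `p`-block of defect `≥ r`.
* `schurB n`   : explicit bound for the order of a perfect group with central quotient of order `≤ n`.
* `gtBound a c`: explicit bound for the order of a group whose Sylow 2-subgroups have order `≤ 2^a`
  and which contains commuting involutions `t₁ t₂` with `|C(t₁)|, |C(t₂)|, |C(t₁t₂)| ≤ c`.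
-/

set_option autoImplicit false

namespace Cfsg.Agent.Lib.Helper79.S4719

open Cfsg

universe u

/-- Deficiency class `r`: no non-principal `p`-block of defect `≥ r`. -/
def DC (p : ℕ) (M : Ideal AlgInt) (X : Type u) [Group X] (r : ℕ) : Prop :=
  ∀ B : Set (IrrCharacter X), IsPBlock M B → B ≠ principalBlock M X → blockDefect p B < r

/-- Bound for the order of a perfect group whose central quotient has order `≤ n`. -/
def schurB (n : ℕ) : ℕ := n ^ (n ^ 3 + 1)

/-- Bound for `|L / Z(L)|`, `L` a component, in terms of a bound `c` for an involution centralizer. -/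
def compB (c : ℕ) : ℕ := Nat.factorial (2 * c ^ 2)

/-- The final group-theoretic bound. -/
def gtBound (a c : ℕ) : ℕ :=
  Nat.factorial (schurB (compB c) ^ a * (2 ^ a * c ^ 3))

end Cfsg.Agent.Lib.Helper79.S4719
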