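import Cfsg.Agent.Lib.Helper84.S4719.GTOf
import Cfsg.Agent.Lib.Helper83.S4719.NumaOf
import Cfsg.Agent.Lib.Helper54.FTKit

/-!
# S4719: closing [NUMA]/[NUMB]/[GT] with Feit–Thompson (helper79)

helper83's `_of` forms take the evenness of `|L / Z(L)|` as a hypothesis, helper84's `card_le_gtBound_of`
takes [NUMB] as a hypothesis; here both hypotheses are discharged with `Helper54.FTKit`.
-/

set_option autoImplicit false

namespace Cfsg.Agent.Lib.Helper79.S4719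

open Cfsg

universe u

variable {G : Type u} [Group G]

/-- The central quotient of a component has even order (Feit–Thompson). -/
theorem even_card_quot_center_of_isComponent [Finite G] (L : Subgroup G) (hL : IsComponent L) :
    Even (Nat.card (↥L ⧸ Subgroup.center ↥L)) := by
  have hs : IsSimpleGroup (↥L ⧸ Subgroup.center ↥L) := hL.2.2
  have hp : Group.IsPerfect ↥L := hL.2.1
  apply Cfsg.Agent.Lib.Helper54.FTKit.even_card_of_simple_nonabelian
  by_contra hcon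
  push Not at hcon
  have hc : IsMulCommutative (↥L ⧸ Subgroup.center ↥L) := ⟨⟨fun a b => hcon a b⟩⟩
  exact Group.IsPerfect.not_isMulCommutative (G := ↥L ⧸ Subgroup.center ↥L) inferInstance

/-- [NUMA] -/
theorem two_pow_dvd_and_card_le' [Finite G] (𝒞 : Finset (Subgroup G))
    (h𝒞 : ∀ L ∈ 𝒞, IsComponent L) (ℓ : ℕ) (hℓ : ∀ L ∈ 𝒞, Nat.card L ≤ ℓ) :
    2 ^ 𝒞.card ∣ Nat.card ↥(𝒞.sup id) ∧ Nat.card ↥(𝒞.sup id) ≤ ℓ ^ 𝒞.card :=
  Cfsg.Agent.Lib.Helper83.S4719.two_pow_dvd_and_card_le_of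
    even_card_quot_center_of_isComponent 𝒞 h𝒞 ℓ hℓ

/-- [NUMB] -/
theorem card_layer_le' [Finite G] (ℓ : ℕ) (hℓ0 : 0 < ℓ)
    (hℓ : ∀ L : Subgroup G, IsComponent L → Nat.card L ≤ ℓ) :
    Nat.card (layer G) ≤ ℓ ^ (Nat.card G).factorization 2 :=
  Cfsg.Agent.Lib.Helper83.S4719.card_layer_le_of even_card_quot_center_of_isComponent ℓ hℓ0 hℓ

/-- [GT] -/
theorem card_le_gtBound' [Finite G] (a c : ℕ) (ha : (Nat.card G).factorization 2 ≤ a)
    (t₁ t₂ : G) (h₁ : t₁ * t₁ = 1) (h₂ : t₂ * t₂ = 1) (hcomm : Commute t₁ t₂)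
    (hc₁ : Nat.card (Subgroup.centralizer ({t₁} : Set G)) ≤ c)
    (hc₂ : Nat.card (Subgroup.centralizer ({t₂} : Set G)) ≤ c)
    (hc₃ : Nat.card (Subgroup.centralizer ({t₁ * t₂} : Set G)) ≤ c) :
    Nat.card G ≤ gtBound a c :=
  card_le_gtBound_of (fun ℓ h0 h => card_layer_le' ℓ h0 h) a c ha t₁ t₂ h₁ h₂ hcomm hc₁ hc₂ hc₃

end Cfsg.Agent.Lib.Helper79.S4719
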