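import Cfsg.Agent.Lib.Helper79.S4719.GT
import Cfsg.Agent.Lib.Helper11.S4719.Quot
import Cfsg.Agent.Lib.Helper84.S4719.Eimg
import Cfsg.Agent.S4717
import Cfsg.Agent.S4718

/-!
# S4719: the induction on the deficiency class (helper79)
-/

set_option autoImplicit false

namespace Cfsg.Agent.Lib.Helper79.S4719

open Cfsg

universe u

/-- The bounded-order predicate. -/
def Bnd (r a N : ℕ) : Prop :=
  ∀ (X : Type u) [Group X] [Finite X] (M : Ideal AlgInt), IsPModular 2 M →
    (Nat.card X).factorization 2 ≤ a → DC 2 M X r →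
    (∃ E : Subgroup X, IsMulCommutative E ∧ (∀ x ∈ E, x * x = 1) ∧ Nat.card E = 2 ^ (r + 1)) →
    Nat.card X ≤ N

theorem normal_of_le_center' {C : Type u} [Group C] (Z : Subgroup C) (h : Z ≤ Subgroup.center C) :
    Z.Normal := by
  refine ⟨fun z hz g => ?_⟩
  have hc := h hz
  rw [Subgroup.mem_center_iff] at hc
  have : g * z * g⁻¹ = z := by
    rw [hc g]; group
  rw [this]; exact hz

theorem orderOf_eq_two_of {X : Type u} [Group X] (t : X) (ht : t ≠ 1) (h2 : t * t = 1) :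
    orderOf t = 2 := by
  have : Fact (Nat.Prime 2) := ⟨Nat.prime_two⟩
  exact orderOf_eq_prime (by rw [pow_two]; exact h2) ht

variable {G : Type u} [Group G]

/-- [CENT] -/
theorem card_centralizer_le [Finite G] (r a N : ℕ) (hN : Bnd.{u} r (a - 1) N) (M : Ideal AlgInt)
    (hM : IsPModular 2 M) (ha : (Nat.card G).factorization 2 ≤ a) (hdc : DC 2 M G (r + 1))
    (E : Subgroup G) (hE : IsMulCommutative E) (hexp : ∀ x ∈ E, x * x = 1)
    (hcard : Nat.card E = 2 ^ (r + 2)) (t : G) (htE : t ∈ E) (ht : t ≠ 1) :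
    Nat.card (Subgroup.centralizer ({t} : Set G)) ≤ 2 * N := by
  have : Fact (Nat.Prime 2) := ⟨Nat.prime_two⟩
  have ht2 : orderOf t = 2 := orderOf_eq_two_of t ht (hexp t htE)
  set C : Subgroup G := Subgroup.centralizer ({t} : Set G) with hC
  have htC : t ∈ C := Subgroup.mem_centralizer_singleton_iff.mpr rfl
  -- DC passes to C
  have hdcC : DC 2 M C (r + 1) :=
    (Cfsg.Agent.S4717.result 2 M hM (r + 1)).1 hdc t ⟨1, by rw [ht2, pow_one]⟩
  -- the central subgroup Z
  set tC : C := ⟨t, htC⟩ with htCdef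
  set Z : Subgroup C := Subgroup.zpowers tC with hZdef
  have hZc : Z ≤ Subgroup.center C := by
    rw [hZdef, Subgroup.zpowers_le, Subgroup.mem_center_iff]
    intro g
    apply Subtype.ext
    have hg : (g : G) ∈ Subgroup.centralizer ({t} : Set G) := g.2
    rw [Subgroup.mem_centralizer_singleton_iff] at hg
    show (g : G) * t = t * (g : G)
    exact hg
  have hZn : Z.Normal := normal_of_le_center' Z hZc
  have hotC : orderOf tC = 2 := by
    rw [← ht2]
    exact (Subgroup.orderOf_mk t htC)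
  have hZcard : Nat.card Z = 2 := by
    rw [hZdef, Nat.card_zpowers, hotC]
  have hdcQ : DC 2 M (C ⧸ Z) r := dc_quotient 2 M hM Z hZc hZcard r hdcC
  -- E inside C
  have hEC : E ≤ C := by
    intro x hx
    rw [hC, Subgroup.mem_centralizer_singleton_iff]
    have := hE.is_comm.comm (⟨x, hx⟩ : E) ⟨t, htE⟩
    exact (congrArg Subtype.val this)
  set EC : Subgroup C := E.subgroupOf C with hECdef
  have hECcard : Nat.card EC = 2 ^ (r + 1 + 1) := by
    rw [hECdef, Nat.card_congr (Subgroup.subgroupOfEquivOfLe hEC).toEquiv, hcard]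
  have hZE : Z ≤ EC := by
    rw [hZdef, Subgroup.zpowers_le, hECdef, Subgroup.mem_subgroupOf]
    exact htE
  have hECcomm : IsMulCommutative EC := by
    refine ⟨⟨fun x y => ?_⟩⟩
    apply Subtype.ext
    apply Subtype.ext
    have := hE.is_comm.comm (⟨(x : C), x.2⟩ : E) ⟨(y : C), y.2⟩
    have h2 := congrArg Subtype.val this
    exact h2
  have hECexp : ∀ x ∈ EC, x * x = 1 := by
    intro x hx
    apply Subtype.ext
    exact hexp (x : G) hx
  obtain ⟨E', hE'c, hE'e, hE'card⟩ :=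
    exists_elemAb_quotient Z hZcard EC hZE hECcomm hECexp (r + 1) hECcard
  -- orders
  have hcardC : Nat.card C = Nat.card (C ⧸ Z) * 2 := by
    rw [← hZcard]
    exact Subgroup.card_eq_card_quotient_mul_card_subgroup Z
  have hQpos : Nat.card (C ⧸ Z) ≠ 0 := Nat.card_pos.ne'
  have hνC : (Nat.card C).factorization 2 = (Nat.card (C ⧸ Z)).factorization 2 + 1 := by
    rw [hcardC, Nat.factorization_mul hQpos (by norm_num)]
    simp [Nat.Prime.factorization_self Nat.prime_two]
  have hdvd : Nat.card C ∣ Nat.card G := Subgroup.card_subgroup_dvd_card C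
  have hνle : (Nat.card C).factorization 2 ≤ (Nat.card G).factorization 2 :=
    (Nat.factorization_le_iff_dvd Nat.card_pos.ne' Nat.card_pos.ne').mpr hdvd 2
  have hνQ : (Nat.card (C ⧸ Z)).factorization 2 ≤ a - 1 := by omega
  have hb := hN (C ⧸ Z) M hM hνQ hdcQ ⟨E', hE'c, hE'e, hE'card⟩
  rw [hcardC]
  omega

/-- [IND0] -/
theorem bnd_zero (a : ℕ) : ∃ N, Bnd.{u} 0 a N := by
  have : Fact (Nat.Prime 2) := ⟨Nat.prime_two⟩
  refine ⟨(Finset.range (a + 1)).sup
    (fun a' => Classical.choose (Cfsg.Agent.S4718.result.{u} 2 a')), ?_⟩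
  intro X _ _ M hM ha hdc _
  have hspec := Classical.choose_spec
    (Cfsg.Agent.S4718.result.{u} 2 ((Nat.card X).factorization 2))
  have h1 := hspec X M hM rfl (by
    intro B hB
    by_contra hne
    exact absurd (hdc B hB hne) (Nat.not_lt_zero _))
  refine h1.trans ?_
  exact Finset.le_sup (f := fun a' => Classical.choose (Cfsg.Agent.S4718.result.{u} 2 a'))
    (Finset.mem_range.mpr (Nat.lt_succ_of_le ha))

/-- [INDS] -/
theorem bnd_succ (r : ℕ) (h : ∀ a, ∃ N, Bnd.{u} r a N) (a : ℕ) : ∃ N, Bnd.{u} (r + 1) a N := by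
  obtain ⟨N', hN'⟩ := h (a - 1)
  refine ⟨gtBound a (2 * N'), ?_⟩
  intro X _ _ M hM ha hdc hE
  obtain ⟨E, hEc, hexp, hcard⟩ := hE
  -- choose t₁ ≠ 1 in E
  have h4 : 4 ≤ Nat.card E := by
    rw [hcard]
    calc 4 = 2 ^ 2 := by norm_num
      _ ≤ 2 ^ (r + 1 + 1) := Nat.pow_le_pow_right (by norm_num) (by omega)
  have hex : ∀ S : Finset X, S.card < 4 → ∃ x ∈ E, x ∉ S := by
    classical
    intro S hS
    by_contra hcon
    push Not at hcon
    have hsub : (E : Set X) ⊆ (S : Set X) := fun x hx => hcon x hx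
    have h1 : Nat.card E ≤ S.card := by
      have := Nat.card_mono (Finset.finite_toSet S) hsub
      simpa using this
    omega
  classical
  obtain ⟨t₁, ht₁E, ht₁⟩ := hex {1} (by simp)
  have ht₁1 : t₁ ≠ 1 := by simpa using ht₁
  obtain ⟨t₂, ht₂E, ht₂⟩ := hex {1, t₁} (by
    have := Finset.card_le_two (a := (1 : X)) (b := t₁)
    omega)
  have ht₂1 : t₂ ≠ 1 := by
    intro h1; apply ht₂; simp [h1]
  have ht₂₁ : t₂ ≠ t₁ := by
    intro h1; apply ht₂; simp [h1]
  have h₁ := hexp t₁ ht₁E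
  have h₂ := hexp t₂ ht₂E
  have ht₃E : t₁ * t₂ ∈ E := E.mul_mem ht₁E ht₂E
  have ht₃1 : t₁ * t₂ ≠ 1 := by
    intro h1
    apply ht₂₁
    have : t₂ = t₁⁻¹ := (eq_inv_of_mul_eq_one_right h1)
    rw [this]
    exact (eq_inv_of_mul_eq_one_left h₁).symm
  have hcomm : Commute t₁ t₂ := by
    have := hEc.is_comm.comm (⟨t₁, ht₁E⟩ : E) ⟨t₂, ht₂E⟩
    exact congrArg Subtype.val this
  have hcard' : Nat.card E = 2 ^ (r + 2) := hcard
  have hc₁ := card_centralizer_le r a N' hN' M hM ha hdc E hEc hexp hcard' t₁ ht₁E ht₁1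
  have hc₂ := card_centralizer_le r a N' hN' M hM ha hdc E hEc hexp hcard' t₂ ht₂E ht₂1
  have hc₃ := card_centralizer_le r a N' hN' M hM ha hdc E hEc hexp hcard' (t₁ * t₂) ht₃E ht₃1
  exact card_le_gtBound' a (2 * N') ha t₁ t₂ h₁ h₂ hcomm hc₁ hc₂ hc₃

/-- All levels. -/
theorem bnd_all (r : ℕ) : ∀ a, ∃ N, Bnd.{u} r a N := by
  induction r with
  | zero => exact bnd_zero
  | succ r ih => exact bnd_succ r ih

end Cfsg.Agent.Lib.Helper79.S4719
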